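import Mathlib

/-!
# Finite groups all of whose subgroups are normal
-/

namespace CfsgLib.Hamiltonian

variable {G : Type*} [Group G]

theorem pow_mul_of_comm {x y d : G} (hx : Commute d x) (h : x * y = d * (y * x)) (n : ℕ) :
    x ^ n * y = d ^ n * (y * x ^ n) := by
  induction n with
  | zero => simp
  | succ n ih =>
    calc x ^ (n + 1) * y = x ^ n * (x * y) := by rw [pow_succ, mul_assoc]
      _ = (x ^ n * d) * (y * x) := by rw [h, mul_assoc]
      _ = d * (x ^ n * y) * x := by rw [← (hx.pow_right n).eq]; simp [mul_assoc]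
      _ = d ^ (n + 1) * (y * x ^ (n + 1)) := by
        rw [ih, pow_succ' d, pow_succ x]; simp [mul_assoc]

/-- the power formula for two elements whose commutator commutes with both -/
theorem mul_pow_of_comm {x y d : G} (hx : Commute d x) (hy : Commute d y) (h : x * y = d * (y * x))
    (m k : ℕ) : (y * x ^ m) ^ k = d ^ (m * k.choose 2) * (y ^ k * x ^ (m * k)) := by
  have h1 := pow_mul_of_comm hx h (y := y)
  induction k with
  | zero => simp
  | succ k ih =>
    calc (y * x ^ m) ^ (k + 1)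
        = d ^ (m * k.choose 2) * (y ^ k * (x ^ (m * k) * y) * x ^ m) := by
          rw [pow_succ, ih]; simp [mul_assoc]
      _ = d ^ (m * k.choose 2) * ((y ^ k * d ^ (m * k)) * (y * x ^ (m * k)) * x ^ m) := by
          rw [h1]; simp [mul_assoc]
      _ = d ^ (m * k.choose 2) * d ^ (m * k) * (y ^ k * y * (x ^ (m * k) * x ^ m)) := by
          rw [← ((hy.pow_left (m * k)).pow_right k).eq]; simp [mul_assoc]
      _ = d ^ (m * (k + 1).choose 2) * (y ^ (k + 1) * x ^ (m * (k + 1))) := by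
          rw [← pow_add, ← pow_add, ← pow_succ, Nat.choose_succ_succ', Nat.choose_one_right]
          ring_nf

variable [Finite G]

/-- an element of order dividing `p` in a cyclic `p`-group is a power of the socle generator -/
theorem exists_pow_of_mem {p a : ℕ} (hp : p.Prime) {x w : G} (hx : orderOf x = p ^ (a + 1))
    (hw : w ∈ Subgroup.zpowers x) (hwp : w ^ p = 1) : ∃ s : ℕ, (x ^ p ^ a) ^ s = w := by
  obtain ⟨i, rfl⟩ := (mem_powers_iff_mem_zpowers.2 hw :)
  change (x ^ i) ^ p = 1 at hwp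
  rw [← pow_mul, ← orderOf_dvd_iff_pow_eq_one, hx, pow_succ] at hwp
  obtain ⟨s, rfl⟩ := Nat.dvd_of_mul_dvd_mul_right hp.pos hwp
  exact ⟨s, (pow_mul x _ _).symm⟩

theorem dvd_mul_choose {p e m : ℕ} (hp : p.Prime) (h : ¬(p = 2 ∧ e = 1)) (he : 1 ≤ e) :
    p ∣ m * (p ^ e).choose 2 := by
  refine dvd_mul_of_dvd_right ?_ _
  by_cases h2 : p = 2
  · subst h2
    obtain ⟨f, rfl⟩ : ∃ f, e = f + 2 := ⟨e - 2, by omega⟩
    rw [Nat.choose_two_right, pow_succ, mul_comm _ 2, mul_assoc, Nat.mul_div_cancel_left _ two_pos]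
    exact dvd_mul_of_dvd_left (dvd_pow_self 2 (by omega)) _
  · refine Nat.Prime.dvd_choose_pow hp (by norm_num) ?_
    have h3 : 3 ≤ p := by have := hp.two_le; omega
    have := Nat.le_self_pow (show e ≠ 0 by omega) p
    omega

variable (hn : ∀ H : Subgroup G, H.Normal)
include hn

theorem commutator_mem_left (x y : G) : x * y * x⁻¹ * y⁻¹ ∈ Subgroup.zpowers x := by
  have h := (hn (Subgroup.zpowers x)).conj_mem x⁻¹ (inv_mem (Subgroup.mem_zpowers x)) y
  simpa [mul_assoc] using mul_mem (Subgroup.mem_zpowers x) h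

theorem commutator_mem_right (x y : G) : x * y * x⁻¹ * y⁻¹ ∈ Subgroup.zpowers y :=
  mul_mem ((hn (Subgroup.zpowers y)).conj_mem y (Subgroup.mem_zpowers y) x)
    (inv_mem (Subgroup.mem_zpowers y))

theorem commute_of_coprime {x y : G} (h : (orderOf x).Coprime (orderOf y)) : Commute x y := by
  have h1 := commutator_mem_left hn x y
  have h2 := commutator_mem_right hn x y
  have := Subgroup.inf_eq_bot_of_coprime (H := Subgroup.zpowers x) (K := Subgroup.zpowers y)
    (by rwa [Nat.card_zpowers, Nat.card_zpowers])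
  have h3 : x * y * x⁻¹ * y⁻¹ ∈ Subgroup.zpowers x ⊓ Subgroup.zpowers y := ⟨h1, h2⟩
  rw [this, Subgroup.mem_bot, ← commutatorElement_def, commutatorElement_eq_one_iff_commute] at h3
  exact h3

theorem quaternion_step {p : ℕ} (hp : p.Prime)
    {N : ℕ} (ih : ∀ m, m < N → ∀ {x y : G}, (∃ k, orderOf x = p ^ k) → (∃ k, orderOf y = p ^ k) →
      ¬ Commute x y → m = orderOf x + orderOf y →
      p = 2 ∧ ∃ u v : G, orderOf u = 4 ∧ orderOf v = 4 ∧ u * u = v * v ∧ v * u * v⁻¹ = u⁻¹)
    {x y : G} {a b : ℕ} (ha : orderOf x = p ^ a) (hb : orderOf y = p ^ b) (hxy : ¬ Commute x y)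
    (hab : b ≤ a) (hN : orderOf x + orderOf y = N) :
    p = 2 ∧ ∃ u v : G, orderOf u = 4 ∧ orderOf v = 4 ∧ u * u = v * v ∧ v * u * v⁻¹ = u⁻¹ := by
  have := Fact.mk hp
  set c := x * y * x⁻¹ * y⁻¹ with hc
  have hcx : c ∈ Subgroup.zpowers x := commutator_mem_left hn x y
  have hcy : c ∈ Subgroup.zpowers y := commutator_mem_right hn x y
  have hx' : Commute c x := by
    obtain ⟨i, hi⟩ := Subgroup.mem_zpowers_iff.1 hcx
    rw [← hi]; exact (Commute.refl x).zpow_left i
  have hy' : Commute c y := by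
    obtain ⟨i, hi⟩ := Subgroup.mem_zpowers_iff.1 hcy
    rw [← hi]; exact (Commute.refl y).zpow_left i
  have hrel : x * y = c * (y * x) := by rw [hc]; group
  have hc1 : c ≠ 1 := fun h => hxy (by rw [Commute, SemiconjBy, hrel, h, one_mul])
  obtain ⟨b, rfl⟩ : ∃ b', b = b' + 1 := ⟨b - 1, by
    rcases b with _ | b
    · exfalso; rw [pow_zero, orderOf_eq_one_iff] at hb; exact hxy (hb ▸ Commute.one_right x)
    · rfl⟩
  obtain ⟨a, rfl⟩ : ∃ a', a = a' + 1 := ⟨a - 1, by omega⟩
  -- `x ^ p` commutes with `y`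
  by_cases hxp : Commute (x ^ p) y
  swap
  · have ho : orderOf (x ^ p) = p ^ a := by
      rw [orderOf_pow' x hp.ne_zero, ha, Nat.gcd_eq_right (dvd_pow_self p (by omega)), pow_succ,
        Nat.mul_div_cancel _ hp.pos]
    refine ih _ ?_ ⟨a, ho⟩ ⟨_, hb⟩ hxp rfl
    rw [← hN, ho, ha]
    have := Nat.pow_lt_pow_right hp.one_lt (show a < a + 1 by omega)
    omega
  have hcp : c ^ p = 1 := by
    have h2 := pow_mul_of_comm hx' hrel p
    rw [hxp.eq] at h2
    exact mul_eq_right.1 h2.symm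
  have hco : orderOf c = p := orderOf_eq_prime hcp hc1
  have hb0 : 1 ≤ b := by
    by_contra hb0
    apply hxy
    have e : Subgroup.zpowers c = Subgroup.zpowers y :=
      Subgroup.eq_of_le_of_card_ge (Subgroup.zpowers_le.2 hcy)
        (by rw [Nat.card_zpowers, Nat.card_zpowers, hco, hb, show b = 0 by omega, pow_one])
    obtain ⟨i, hi⟩ := Subgroup.mem_zpowers_iff.1 (e ▸ Subgroup.mem_zpowers y)
    rw [← hi]
    exact (hx'.zpow_left i).symm
  have ho : orderOf (y ^ p ^ b) = p := by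
    rw [orderOf_pow' y (pow_ne_zero _ hp.ne_zero), hb, pow_succ,
      Nat.gcd_eq_right (dvd_mul_right _ _), Nat.mul_div_cancel_left _ (pow_pos hp.pos _)]
  have e : Subgroup.zpowers (y ^ p ^ b) = Subgroup.zpowers c := by
    refine (Subgroup.eq_of_le_of_card_ge (Subgroup.zpowers_le.2 ?_)
      (by rw [Nat.card_zpowers, Nat.card_zpowers, hco, ho])).symm
    obtain ⟨s, hs⟩ := exists_pow_of_mem hp hb hcy hcp
    rw [← hs]; exact pow_mem (Subgroup.mem_zpowers _) s
  have hw : (y ^ p ^ b)⁻¹ ∈ Subgroup.zpowers x :=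
    inv_mem (Subgroup.zpowers_le.2 hcx (e ▸ Subgroup.mem_zpowers _))
  obtain ⟨s, hs⟩ := exists_pow_of_mem hp ha hw
    (by
      have h' := pow_orderOf_eq_one (y ^ p ^ b)
      rw [ho] at h'
      rw [inv_pow, h', inv_one])
  set m := p ^ (a - b) * s with hm
  have hform := mul_pow_of_comm hx' hy' hrel m (p ^ b)
  have hxm : x ^ (m * p ^ b) = (y ^ p ^ b)⁻¹ := by
    rw [← hs, ← pow_mul]
    congr 1
    rw [hm, mul_right_comm, ← pow_add, Nat.sub_add_cancel (by omega)]
  rw [hxm, mul_inv_cancel, mul_one] at hform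
  by_cases hgood : p = 2 ∧ b = 1 ∧ a = 1
  · obtain ⟨rfl, rfl, rfl⟩ := hgood
    refine ⟨rfl, x, y, by simpa using ha, by simpa using hb, ?_, ?_⟩
    · obtain ⟨i, hi⟩ := exists_pow_of_mem hp ha hcx hcp
      obtain ⟨j, hj⟩ := exists_pow_of_mem hp hb hcy hcp
      have key : ∀ (w : G) (n : ℕ), orderOf w = 2 ^ (1 + 1) → (w ^ 2 ^ 1) ^ n = c →
          w * w = c := by
        intro w n hw hn
        rw [pow_one] at hn
        rcases Nat.even_or_odd n with ⟨k, rfl⟩ | ⟨k, rfl⟩
        · exfalso; apply hc1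
          rw [← hn, ← pow_mul, show 2 * (k + k) = 2 ^ (1 + 1) * k by ring, pow_mul, ← hw,
            pow_orderOf_eq_one, one_pow]
        · rw [← hn, ← pow_mul, show 2 * (2 * k + 1) = 2 ^ (1 + 1) * k + 2 by ring, pow_add, pow_mul,
            ← hw, pow_orderOf_eq_one, one_pow, one_mul, pow_two]
      rw [key x i ha hi, key y j hb hj]
    · obtain ⟨i, hi⟩ := exists_pow_of_mem hp ha hcx hcp
      have hxx : x * x = c := by
        rw [pow_one] at hi
        rcases Nat.even_or_odd i with ⟨k, rfl⟩ | ⟨k, rfl⟩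
        · exfalso; apply hc1
          rw [← hi, ← pow_mul, show 2 * (k + k) = 2 ^ (1 + 1) * k by ring, pow_mul, ← ha,
            pow_orderOf_eq_one, one_pow]
        · rw [← hi, ← pow_mul, show 2 * (2 * k + 1) = 2 ^ (1 + 1) * k + 2 by ring, pow_add, pow_mul,
            ← ha, pow_orderOf_eq_one, one_pow, one_mul, pow_two]
      have h3 : y * x⁻¹ * y⁻¹ = x := by
        apply mul_left_cancel (a := x)
        rw [hxx, hc]; group
      calc y * x * y⁻¹ = (y * x⁻¹ * y⁻¹)⁻¹ := by group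
        _ = x⁻¹ := by rw [h3]
  · have hdvd : p ∣ m * (p ^ b).choose 2 := by
      by_cases h21 : p = 2 ∧ b = 1
      · obtain ⟨rfl, rfl⟩ := h21
        refine dvd_mul_of_dvd_left (dvd_mul_of_dvd_left (dvd_pow_self _ ?_) _) _
        have : a ≠ 1 := fun h => hgood ⟨rfl, rfl, h⟩
        omega
      · exact dvd_mul_choose hp h21 hb0
    obtain ⟨t, ht⟩ := hdvd
    have hct : c ^ (p * t) = 1 := by rw [pow_mul, hcp, one_pow]
    rw [ht, hct] at hform
    obtain ⟨j, hj, hj'⟩ := (Nat.dvd_prime_pow hp).1 (orderOf_dvd_of_pow_eq_one hform)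
    refine ih _ ?_ ⟨_, ha⟩ ⟨j, hj'⟩ (fun h => hxy ?_) rfl
    · rw [← hN, hj', hb]
      have := Nat.pow_lt_pow_right hp.one_lt (show j < b + 1 by omega)
      omega
    · have : Commute x (y * x ^ m * (x ^ m)⁻¹) :=
        h.mul_right ((Commute.refl x).pow_right m).inv_right
      simpa using this


/-- The only obstruction to commutativity is a quaternion group of order eight. -/
theorem quaternion_of_not_commute {p : ℕ} (hp : p.Prime) {x y : G} (hx : ∃ k, orderOf x = p ^ k)
    (hy : ∃ k, orderOf y = p ^ k) (hxy : ¬ Commute x y) :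
    p = 2 ∧ ∃ u v : G, orderOf u = 4 ∧ orderOf v = 4 ∧ u * u = v * v ∧ v * u * v⁻¹ = u⁻¹ := by
  obtain ⟨N, hN⟩ : ∃ N, N = orderOf x + orderOf y := ⟨_, rfl⟩
  induction N using Nat.strong_induction_on generalizing x y with
  | _ N ih => ?_
  obtain ⟨a, ha⟩ := hx
  obtain ⟨b, hb⟩ := hy
  rcases le_total a b with hab | hab
  · exact quaternion_step hn hp ih hb ha (fun h => hxy h.symm) hab (by rw [hN, add_comm])
  · exact quaternion_step hn hp ih ha hb hxy hab hN.symm

end CfsgLib.Hamiltonian
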